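import Mathlib
import Cfsg.Agent.Lib.TwoGroups.OneInvolution
import Cfsg.Agent.Lib.SubgroupCount.Basic

/-!
Finite p-groups in which subgroups of equal order are isomorphic: cyclic, elementary abelian,
quaternion of order 8, or extraspecial of order p^3 and exponent p.
-/

set_option autoImplicit false
set_option linter.style.haveILetI false
set_option linter.unusedSectionVars false

namespace CfsgLib.EqualOrder

open Subgroup
open scoped Pointwise

variable {S : Type*} [Group S] [Finite S]

theorem comm_of_mulEquiv {A B : Subgroup S} (e : A ≃* B) (hA : IsMulCommutative A) :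
    IsMulCommutative B :=
  ⟨⟨fun a b => e.symm.injective (by rw [map_mul, map_mul]; exact hA.is_comm.comm _ _)⟩⟩

theorem cyclic_of_mulEquiv {A B : Subgroup S} (e : A ≃* B) (hA : IsCyclic A) : IsCyclic B :=
  isCyclic_of_surjective e e.surjective

/-- Two commuting distinct elements of order p force every element to have order dividing p. -/
theorem exponent_prime {p : ℕ} [hp : Fact p.Prime] (hS : IsPGroup p S)
    (hiso : ∀ A B : Subgroup S, Nat.card A = Nat.card B → Nonempty (A ≃* B))
    {a b : S} (ha : orderOf a = p) (hb : orderOf b = p) (hab : Commute a b) (hne : b ∉ zpowers a)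
    (w : S) : w ^ p = 1 := by
  by_contra hw
  obtain ⟨k, hk⟩ := IsPGroup.iff_orderOf.1 hS w
  have hk2 : 2 ≤ k := by
    by_contra hlt
    apply hw
    interval_cases k
    · rw [pow_zero, orderOf_eq_one_iff] at hk; rw [hk, one_pow]
    · rw [pow_one] at hk; rw [← hk]; exact pow_orderOf_eq_one w
  -- a cyclic subgroup of order p^2
  have hord : orderOf (w ^ p ^ (k - 2)) = p ^ 2 := by
    rw [orderOf_pow_of_dvd (pow_ne_zero _ hp.out.ne_zero) (hk ▸ pow_dvd_pow p (Nat.sub_le k 2)), hk,
      Nat.pow_div (Nat.sub_le k 2) hp.out.pos]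
    congr 1; omega
  -- the elementary subgroup
  let E : Subgroup S := closure {a, b}
  have hcE : IsMulCommutative E := by
    refine isMulCommutative_closure ?_
    rintro x (rfl | rfl) y (rfl | rfl)
    all_goals first | rfl | exact hab.eq | exact hab.eq.symm
  have hexp : ∀ x ∈ E, x ^ p = 1 := by
    intro x hx
    induction hx using Subgroup.closure_induction with
    | mem y hy =>
      rcases hy with rfl | rfl
      · rw [← ha]; exact pow_orderOf_eq_one _
      · rw [← hb]; exact pow_orderOf_eq_one _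
    | one => exact one_pow p
    | mul y z hy hz h1 h2 =>
      have hc : Commute y z := congrArg Subtype.val (hcE.is_comm.comm ⟨y, hy⟩ ⟨z, hz⟩)
      rw [hc.mul_pow, h1, h2, one_mul]
    | inv y _ h => rw [inv_pow, h, inv_one]
  have hlt : zpowers a < E := by
    refine lt_of_le_of_ne (zpowers_le.2 (subset_closure (Set.mem_insert _ _))) fun h => hne ?_
    rw [h]; exact subset_closure (Set.mem_insert_of_mem _ rfl)
  obtain ⟨e, he⟩ := (hS.to_subgroup E).exists_card_eq
  have he2 : 2 ≤ e := by
    by_contra h2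
    have h1 : Nat.card E ≤ p := by
      rw [he]; calc p ^ e ≤ p ^ 1 := Nat.pow_le_pow_right hp.out.pos (by omega)
        _ = p := pow_one p
    exact hlt.ne (eq_of_le_of_card_ge hlt.le (by rw [Nat.card_zpowers, ha]; exact h1))
  obtain ⟨F, hF⟩ := Sylow.exists_subgroup_card_pow_prime (G := E) p (n := 2)
    (he ▸ pow_dvd_pow p he2)
  have hF' : Nat.card (F.map E.subtype) = p ^ 2 := by
    rw [Subgroup.card_map_of_injective E.subtype_injective, hF]
  obtain ⟨f⟩ := hiso (zpowers (w ^ p ^ (k - 2))) (F.map E.subtype)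
    (by rw [Nat.card_zpowers, hord, hF'])
  set g : S := (f ⟨_, mem_zpowers _⟩ : S) with hg
  have hgo : orderOf g = p ^ 2 := by
    rw [hg, Subgroup.orderOf_coe, f.orderOf_eq, ← Subgroup.orderOf_coe]; exact hord
  have hgE : g ∈ E := Subgroup.map_subtype_le F (f ⟨_, mem_zpowers _⟩).2
  have h1 := orderOf_dvd_of_pow_eq_one (hexp g hgE)
  rw [hgo] at h1
  have h3 : p ^ 2 ≤ p := Nat.le_of_dvd hp.out.pos h1
  have h4 := hp.out.two_le
  nlinarith

/-- A 2-group whose equal order subgroups are isomorphic. -/
theorem two_shape (hS : IsPGroup 2 S)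
    (hiso : ∀ A B : Subgroup S, Nat.card A = Nat.card B → Nonempty (A ≃* B)) :
    IsCyclic S ∨ (IsMulCommutative S ∧ ∀ w : S, w ^ 2 = 1) ∨
      Nonempty (S ≃* QuaternionGroup 2) := by
  haveI : Fact (Nat.Prime 2) := ⟨Nat.prime_two⟩
  by_cases h1 : ∀ a b : S, orderOf a = 2 → orderOf b = 2 → a = b
  · rcases CfsgLib.TwoGroups.OneInvolution.isCyclic_or_quaternion hS h1 with h | ⟨n, hn, ⟨e⟩⟩
    · exact Or.inl h
    · rcases Nat.lt_or_ge n 2 with hn2 | hn2
      · obtain rfl : n = 1 := by omega
        exact Or.inr (Or.inr ⟨e.trans (by rw [pow_one])⟩)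
      · exfalso
        haveI : NeZero (2 ^ n) := ⟨by positivity⟩
        let q := QuaternionGroup.xa (0 : ZMod (2 * 2 ^ n))
        let x : S := e.symm q
        have hxo : orderOf x = 2 ^ 2 := by
          rw [show x = e.symm q from rfl, e.symm.orderOf_eq, QuaternionGroup.orderOf_xa]; norm_num
        have hc : Nat.card S = 4 * 2 ^ n := by
          rw [Nat.card_congr e.toEquiv, Nat.card_eq_fintype_card, QuaternionGroup.card]
        have h8 : 2 ^ 3 ∣ Nat.card S := by
          rw [hc, show 4 * 2 ^ n = 2 ^ (n + 2) by rw [pow_add]; ring]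
          exact pow_dvd_pow 2 (by omega)
        obtain ⟨K, hK, hxK⟩ := Sylow.exists_subgroup_card_pow_prime_le (G := S) 2 h8 (zpowers x)
          (n := 2) (by rw [Nat.card_zpowers, hxo]) (by omega)
        let a : S := e.symm (QuaternionGroup.a (1 : ZMod (2 * 2 ^ n))) ^ 2 ^ (n - 2)
        have hao : orderOf a = 2 ^ 3 := by
          have ho : orderOf (e.symm (QuaternionGroup.a (1 : ZMod (2 * 2 ^ n)))) = 2 ^ (n + 1) := by
            rw [e.symm.orderOf_eq, QuaternionGroup.orderOf_a_one, pow_succ, mul_comm]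
          rw [show a = _ ^ 2 ^ (n - 2) from rfl, orderOf_pow_of_dvd (by positivity)
            (ho ▸ pow_dvd_pow 2 (by omega)), ho, Nat.pow_div (by omega) two_pos]
          congr 1; omega
        obtain ⟨f⟩ := hiso (zpowers a) K (by rw [Nat.card_zpowers, hao, hK])
        obtain ⟨⟨g, hgK⟩, hgen⟩ := (cyclic_of_mulEquiv f inferInstance).exists_generator
        have hgo : orderOf g = 8 := by
          have h := orderOf_eq_card_of_forall_mem_zpowers hgen
          rw [hK, ← Subgroup.orderOf_coe] at h
          exact h.trans (by norm_num)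
        obtain ⟨i, hi⟩ := mem_zpowers_iff.1 (hgen ⟨x, hxK (mem_zpowers x)⟩)
        have hi' : g ^ i = x := by simpa using congrArg Subtype.val hi
        have hi2 : (e g) ^ i = q := by
          rw [← map_zpow, hi', show x = e.symm q from rfl, e.apply_symm_apply]
        have hgo' : orderOf (e g) = 8 := by rw [e.orderOf_eq, hgo]
        rcases hq : e g with j | j
        · rw [hq] at hi2
          have hmem : q ∈ zpowers (QuaternionGroup.a (1 : ZMod (2 * 2 ^ n))) := by
            rw [← hi2]
            refine zpow_mem ?_ i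
            refine mem_zpowers_iff.2 ⟨(j.val : ℤ), ?_⟩
            rw [zpow_natCast, QuaternionGroup.a_one_pow, ZMod.natCast_zmod_val]
          obtain ⟨k, hk⟩ := mem_zpowers_iff.1 hmem
          obtain ⟨l, hl⟩ : ∃ l : ℕ, (QuaternionGroup.a (1 : ZMod (2 * 2 ^ n))) ^ l = q :=
            Submonoid.mem_powers_iff _ _ |>.1 ((mem_powers_iff_mem_zpowers).2 hmem)
          rw [QuaternionGroup.a_one_pow] at hl
          simp [q] at hl
        · rw [hq, QuaternionGroup.orderOf_xa] at hgo'
          omega
  · refine Or.inr (Or.inl ?_)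
    push Not at h1
    obtain ⟨a, b, ha, hb, hab⟩ := h1
    haveI : Nontrivial S := nontrivial_of_ne a b hab
    haveI := hS.center_nontrivial
    obtain ⟨k, hk0, hk⟩ := (hS.to_subgroup (center S)).nontrivial_iff_card.1 inferInstance
    obtain ⟨c, hc⟩ := exists_prime_orderOf_dvd_card' 2
      (show 2 ∣ Nat.card (center S) from hk ▸ dvd_pow_self 2 hk0.ne')
    rw [← Subgroup.orderOf_coe] at hc
    obtain ⟨d, hd, hdc⟩ : ∃ d : S, orderOf d = 2 ∧ d ≠ (c : S) := by
      by_cases h : a = (c : S)
      · exact ⟨b, hb, fun h' => hab (h.trans h'.symm)⟩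
      · exact ⟨a, ha, h⟩
    have hne : d ∉ zpowers (c : S) := by
      intro h
      obtain ⟨l, hl⟩ := Submonoid.mem_powers_iff _ _ |>.1 ((mem_powers_iff_mem_zpowers).2 h)
      rw [← pow_mod_orderOf, hc] at hl
      rcases Nat.mod_two_eq_zero_or_one l with h0 | h0 <;> rw [h0] at hl
      · rw [pow_zero] at hl; rw [← hl, orderOf_one] at hd; omega
      · rw [pow_one] at hl; exact hdc hl.symm
    have hexp := exponent_prime hS hiso hc hd
      (show Commute (c : S) d from (mem_center_iff.1 c.2 d).symm) hne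
    refine ⟨⟨⟨fun u v => ?_⟩⟩, hexp⟩
    have inv : ∀ w : S, w⁻¹ = w := fun w => inv_eq_of_mul_eq_one_right (by rw [← pow_two]; exact hexp w)
    calc u * v = (u * v)⁻¹ := (inv _).symm
      _ = v * u := by rw [mul_inv_rev, inv, inv]

/-- An odd p-group whose equal order subgroups are isomorphic. -/
theorem odd_shape {p : ℕ} [hp : Fact p.Prime] (hp2 : p ≠ 2) (hS : IsPGroup p S)
    (hiso : ∀ A B : Subgroup S, Nat.card A = Nat.card B → Nonempty (A ≃* B)) :
    IsCyclic S ∨ (IsMulCommutative S ∧ ∀ w : S, w ^ p = 1) ∨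
      (Nat.card S = p ^ 3 ∧ (∀ w : S, w ^ p = 1) ∧ ∃ z ∈ center S, orderOf z = p ∧
        center S = zpowers z ∧ ∀ a b : S, a * b * a⁻¹ * b⁻¹ ∈ zpowers z) := by
  obtain ⟨m, hm⟩ := hS.exists_card_eq
  by_cases h0 : Subsingleton S
  · exact Or.inl inferInstance
  haveI : Nontrivial S := not_subsingleton_iff_nontrivial.1 h0
  haveI := hS.center_nontrivial
  obtain ⟨kc, hkc0, hkc⟩ := (hS.to_subgroup (center S)).nontrivial_iff_card.1 inferInstance
  obtain ⟨c, hc⟩ := exists_prime_orderOf_dvd_card' p
    (show p ∣ Nat.card (center S) from hkc ▸ dvd_pow_self p hkc0.ne')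
  rw [← Subgroup.orderOf_coe] at hc
  by_cases huniq : ∀ H K : Subgroup S, Nat.card H = p → Nat.card K = p → H = K
  · left
    rcases Nat.lt_or_ge 1 m with h1 | h1
    · exact CfsgLib.SubgroupCount.isCyclic_of_unique_subgroup (s := 1) hp.out hm le_rfl h1
        (Or.inl hp2) (by simpa using huniq)
    · have hm1 : m = 1 := by
        refine le_antisymm h1 (Nat.one_le_iff_ne_zero.2 ?_)
        rintro rfl
        exact h0 (Finite.card_le_one_iff_subsingleton.1 (by rw [hm, pow_zero]))
      exact isCyclic_of_prime_card (p := p) (by rw [hm, hm1, pow_one])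
  obtain ⟨d, hd, hne⟩ : ∃ d : S, orderOf d = p ∧ d ∉ zpowers (c : S) := by
    by_contra hall
    push Not at hall
    refine huniq fun H K hH hK => ?_
    have key : ∀ L : Subgroup S, Nat.card L = p → L = zpowers (c : S) := by
      intro L hL
      refine eq_of_le_of_card_ge (fun w hw => ?_) (by rw [Nat.card_zpowers, hc, hL])
      rcases eq_or_ne w 1 with rfl | hw1
      · exact one_mem _
      refine hall w (orderOf_eq_prime ?_ hw1)
      have := pow_card_eq_one' (G := L) (x := ⟨w, hw⟩)
      rw [hL] at this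
      exact congrArg Subtype.val this
    rw [key H hH, key K hK]
  have hexp := exponent_prime hS hiso hc hd
    (show Commute (c : S) d from (mem_center_iff.1 c.2 d).symm) hne
  by_cases hab : IsMulCommutative S
  · exact Or.inr (Or.inl ⟨hab, hexp⟩)
  refine Or.inr (Or.inr ?_)
  set Z := center S with hZ
  obtain ⟨x, hxZ, hx2⟩ : ∃ x : S, x ∉ Z ∧ ∀ y : S, y * x * y⁻¹ * x⁻¹ ∈ Z := by
    haveI : Nontrivial (S ⧸ Z) := by
      refine not_subsingleton_iff_nontrivial.1 fun h => hab ⟨⟨fun a b => ?_⟩⟩
      exact (mem_center_iff.1 ((QuotientGroup.eq_one_iff a).1 (Subsingleton.elim _ _)) b).symm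
    haveI := (hS.to_quotient Z).center_nontrivial
    obtain ⟨⟨q, hq⟩, hq1⟩ := exists_ne (1 : center (S ⧸ Z))
    obtain ⟨x, rfl⟩ := QuotientGroup.mk_surjective q
    refine ⟨x, fun h => hq1 (Subtype.ext ((QuotientGroup.eq_one_iff x).2 h)), fun y => ?_⟩
    rw [← QuotientGroup.eq_one_iff]
    have := mem_center_iff.1 hq (y : S ⧸ Z)
    simp only [QuotientGroup.mk_mul, QuotientGroup.mk_inv, this]
    group
  obtain ⟨y, hy⟩ : ∃ y : S, y * x ≠ x * y := by
    by_contra hall
    push Not at hall
    exact hxZ (mem_center_iff.2 hall)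
  set e := y * x * y⁻¹ * x⁻¹ with he
  have he1 : e ≠ 1 := fun h => hy (by
    have := mul_inv_eq_one.1 (he ▸ h)
    exact mul_inv_eq_iff_eq_mul.1 this)
  have heZ : ∀ w : S, w * e = e * w := mem_center_iff.1 (hx2 y)
  have heo : orderOf e = p := orderOf_eq_prime (hexp e) he1
  -- a nonabelian subgroup of order `p ^ 3`
  let K : Subgroup S := closure {e, x}
  have hK : IsMulCommutative K := by
    refine isMulCommutative_closure ?_
    rintro a (rfl | rfl) b (rfl | rfl)
    all_goals first | rfl | exact heZ _ | exact (heZ _).symm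
  have hKcard : Nat.card K ≤ p * p := by
    have hle : K ≤ zpowers e ⊔ zpowers x := by
      refine (closure_le _).2 ?_
      rintro a (rfl | rfl)
      · exact mem_sup_left (mem_zpowers _)
      · exact mem_sup_right (mem_zpowers _)
    haveI : (zpowers e).Normal := ⟨fun w hw g => by
      obtain ⟨i, rfl⟩ := mem_zpowers_iff.1 hw
      rw [(Commute.zpow_right (heZ g : Commute g e) i).eq, mul_inv_cancel_right]
      exact zpow_mem (mem_zpowers e) i⟩
    calc Nat.card K ≤ Nat.card ((zpowers e ⊔ zpowers x : Subgroup S) : Set S) :=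
          Subgroup.card_le_of_le hle
      _ = Nat.card ↥((zpowers e : Set S) * (zpowers x : Set S)) := by
          rw [Subgroup.normal_mul]
      _ ≤ Nat.card (zpowers e : Set S) * Nat.card (zpowers x : Set S) := Set.natCard_mul_le
      _ = p * p := by
          show Nat.card (zpowers e) * Nat.card (zpowers x) = _
          rw [Nat.card_zpowers, Nat.card_zpowers, heo,
            orderOf_eq_prime (hexp x) (fun h => hxZ (h ▸ one_mem _))]
  have hxK : x ∈ K := subset_closure (by simp)
  have heK : e ∈ K := subset_closure (by simp)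
  have hyn : y ∈ normalizer (K : Set S) := by
    refine mem_normalizer_fintype ?_
    intro a ha
    induction ha using Subgroup.closure_induction with
    | mem b hb =>
      rcases hb with rfl | rfl
      · rw [heZ y, mul_inv_cancel_right]; exact heK
      · rw [show y * b * y⁻¹ = e * b by rw [he]; group]; exact mul_mem heK hxK
    | one => simp
    | mul b c _ _ h1 h2 =>
      rw [show y * (b * c) * y⁻¹ = (y * b * y⁻¹) * (y * c * y⁻¹) by group]; exact mul_mem h1 h2
    | inv b _ h => rw [show y * b⁻¹ * y⁻¹ = (y * b * y⁻¹)⁻¹ by group]; exact inv_mem h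
  let H : Subgroup S := zpowers y ⊔ K
  have hHcard : Nat.card H ≤ p * (p * p) := by
    calc Nat.card H = Nat.card ↥((zpowers y : Set S) * (K : Set S)) := by
          rw [← coe_mul_of_left_le_normalizer_right _ _ (zpowers_le.2 hyn)]
          rfl
      _ ≤ Nat.card (zpowers y : Set S) * Nat.card (K : Set S) := Set.natCard_mul_le
      _ ≤ p * (p * p) := by
          refine Nat.mul_le_mul (le_of_eq ?_) hKcard
          show Nat.card (zpowers y) = p
          rw [Nat.card_zpowers, orderOf_eq_prime (hexp y) (fun h => hy (by rw [h]; simp))]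
  have hHna : ¬ IsMulCommutative H := fun h => hy (congrArg Subtype.val
    (h.is_comm.comm ⟨y, mem_sup_left (mem_zpowers y)⟩ ⟨x, mem_sup_right hxK⟩))
  obtain ⟨r, hr⟩ := (hS.to_subgroup H).exists_card_eq
  have hr3 : r = 3 := by
    refine le_antisymm ((Nat.pow_le_pow_iff_right hp.out.one_lt).1 ?_) ?_
    · rw [← hr]; exact hHcard.trans (le_of_eq (by ring))
    · by_contra hlt
      refine hHna ?_
      interval_cases r
      · haveI : Subsingleton H := Finite.card_le_one_iff_subsingleton.1 (by rw [hr, pow_zero])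
        exact ⟨⟨fun a b => Subsingleton.elim _ _⟩⟩
      · haveI := isCyclic_of_prime_card (α := H) (p := p) (by rw [hr, pow_one])
        exact IsCyclic.isMulCommutative
      · exact IsPGroup.isMulCommutative_of_card_eq_prime_sq hr
  subst hr3
  -- no abelian subgroup of order `p ^ 3`
  have noab : ∀ A : Subgroup S, IsMulCommutative A → ¬ p ^ 3 ∣ Nat.card A := by
    intro A hA hdvd
    obtain ⟨B, hB⟩ := Sylow.exists_subgroup_card_pow_prime (G := A) p hdvd
    obtain ⟨f⟩ := hiso (B.map A.subtype) H
      (by rw [Subgroup.card_map_of_injective A.subtype_injective, hB, hr])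
    refine hHna (comm_of_mulEquiv f ⟨⟨fun a b => Subtype.ext ?_⟩⟩)
    exact congrArg (Subtype.val : A → S) (hA.is_comm.comm ⟨a, Subgroup.map_subtype_le B a.2⟩
      ⟨b, Subgroup.map_subtype_le B b.2⟩)
  -- the centre has order `p`
  have hZcard : kc = 1 := by
    by_contra hne1
    let A : Subgroup S := closure ((Z : Set S) ∪ {x})
    have hA : IsMulCommutative A := by
      refine isMulCommutative_closure ?_
      rintro a (ha | rfl) b (hb | rfl)
      · exact (mem_center_iff.1 ha b).symm
      · exact (mem_center_iff.1 ha _).symm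
      · exact mem_center_iff.1 hb _
      · rfl
    have hlt : Z < A := lt_of_le_of_ne (fun w hw => subset_closure (Or.inl hw))
      (fun h => hxZ (h ▸ subset_closure (Or.inr rfl)))
    obtain ⟨a, ha⟩ := (hS.to_subgroup A).exists_card_eq
    refine noab A hA (ha ▸ pow_dvd_pow p ?_)
    by_contra h3
    refine hlt.ne (eq_of_le_of_card_ge hlt.le ?_)
    rw [ha, hkc]
    exact Nat.pow_le_pow_right hp.out.pos (by omega)
  subst hZcard
  rw [pow_one] at hkc
  have hZe : Z = zpowers e :=
    (eq_of_le_of_card_ge (zpowers_le.2 (hx2 y)) (by rw [Nat.card_zpowers, heo, hkc])).symm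
  -- the centraliser of `x` has index `p`
  let φ : S →* Z :=
    { toFun := fun w => ⟨w * x * w⁻¹ * x⁻¹, hx2 w⟩
      map_one' := by apply Subtype.ext; simp
      map_mul' := fun a b => by
        apply Subtype.ext
        have h := mem_center_iff.1 (hx2 b) a
        show a * b * x * (a * b)⁻¹ * x⁻¹ = (a * x * a⁻¹ * x⁻¹) * (b * x * b⁻¹ * x⁻¹)
        rw [mem_center_iff.1 (hx2 b) (a * x * a⁻¹ * x⁻¹)]
        calc a * b * x * (a * b)⁻¹ * x⁻¹
            = a * (b * x * b⁻¹ * x⁻¹) * (x * a⁻¹ * x⁻¹) := by group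
          _ = (b * x * b⁻¹ * x⁻¹) * (a * x * a⁻¹ * x⁻¹) := by rw [h]; group }
  have hker : φ.ker = centralizer {x} := by
    ext w
    rw [MonoidHom.mem_ker, mem_centralizer_singleton_iff, ← Subtype.coe_inj]
    show w * x * w⁻¹ * x⁻¹ = 1 ↔ _
    rw [mul_inv_eq_one, mul_inv_eq_iff_eq_mul]
  have hm3 : m = 3 := by
    refine le_antisymm ?_ ((Nat.pow_le_pow_iff_right hp.out.one_lt).1 (by
      rw [← hm, ← hr]; exact Subgroup.card_le_card_group H))
    by_contra h4
    have hidx : Nat.card φ.ker * Nat.card φ.range = p ^ m := by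
      rw [← hm, ← Subgroup.index_ker, Subgroup.card_mul_index]
    have hrange : Nat.card φ.range ≤ p := hkc ▸ Subgroup.card_le_card_group φ.range
    obtain ⟨k, hk⟩ := (hS.to_subgroup φ.ker).exists_card_eq
    have hk3 : 3 ≤ k := by
      by_contra hk3
      have h5 : p ^ 4 ≤ p ^ m := Nat.pow_le_pow_right hp.out.pos (by omega)
      rw [← hidx, hk] at h5
      have h6 : p ^ k * Nat.card φ.range ≤ p ^ 2 * p :=
        Nat.mul_le_mul (Nat.pow_le_pow_right hp.out.pos (by omega)) hrange
      have h7 : p ^ 2 * p < p ^ 4 := by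
        rw [← pow_succ]; exact Nat.pow_lt_pow_right hp.out.one_lt (by omega)
      omega
    obtain ⟨w, hw, hwK⟩ : ∃ w ∈ φ.ker, w ∉ K := by
      by_contra hall
      push Not at hall
      have := Subgroup.card_le_of_le hall
      rw [hk] at this
      have h8 : p * p < p ^ k := by
        calc p * p = p ^ 2 := (pow_two p).symm
          _ < p ^ k := Nat.pow_lt_pow_right hp.out.one_lt (by omega)
      omega
    let A : Subgroup S := closure {e, x, w}
    have hwx : w * x = x * w := mem_centralizer_singleton_iff.1 (hker ▸ hw)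
    have hA : IsMulCommutative A := by
      refine isMulCommutative_closure ?_
      rintro a (rfl | rfl | rfl) b (rfl | rfl | rfl)
      all_goals first | rfl | exact heZ _ | exact (heZ _).symm | exact hwx | exact hwx.symm
    have hlt : K < A := lt_of_le_of_ne (closure_mono (by intro a; simp; tauto))
      (fun h => hwK (h ▸ subset_closure (by simp)))
    have hlt2 : zpowers e < K := lt_of_le_of_ne (zpowers_le.2 heK)
      (fun h => hxZ (hZe ▸ h ▸ hxK))
    obtain ⟨a, ha⟩ := (hS.to_subgroup A).exists_card_eq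
    obtain ⟨b, hb⟩ := (hS.to_subgroup K).exists_card_eq
    refine noab A hA (ha ▸ pow_dvd_pow p ?_)
    have hab : b < a := by
      by_contra hge
      exact hlt.ne (eq_of_le_of_card_ge hlt.le (by
        rw [ha, hb]; exact Nat.pow_le_pow_right hp.out.pos (by omega)))
    have hb2 : 2 ≤ b := by
      by_contra hb1
      refine hlt2.ne (eq_of_le_of_card_ge hlt2.le ?_)
      rw [hb, Nat.card_zpowers, heo]
      calc p ^ b ≤ p ^ 1 := Nat.pow_le_pow_right hp.out.pos (by omega)
        _ = p := pow_one p
    omega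
  subst hm3
  refine ⟨hm, hexp, e, hx2 y, heo, hZe, fun a b => ?_⟩
  -- commutators are central
  haveI : IsMulCommutative (S ⧸ Z) := by
    refine IsPGroup.isMulCommutative_of_card_eq_prime_sq (p := p) ?_
    have := Subgroup.card_eq_card_quotient_mul_card_subgroup Z
    rw [hm, hkc, pow_succ] at this
    exact (Nat.eq_of_mul_eq_mul_right hp.out.pos this).symm
  rw [← hZe, ← QuotientGroup.eq_one_iff]
  simp only [QuotientGroup.mk_mul, QuotientGroup.mk_inv]
  rw [‹IsMulCommutative (S ⧸ Z)›.is_comm.comm (a : S ⧸ Z)]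
  group

end CfsgLib.EqualOrder
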