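import Mathlib
import Cfsg.Agent.Lib.EqualOrder.PGroupShape

/-!
A finite group whose p-subgroups of equal order are conjugate has no extraspecial Sylow subgroup of
order p^3, when the Sylow 2-subgroups are abelian or quaternion of order 8.
-/

set_option autoImplicit false
set_option linter.style.haveILetI false
set_option linter.unusedSectionVars false

namespace CfsgLib.EqualOrder

open Subgroup

variable {G : Type*} [Group G] [Finite G] {p : ℕ}

/-- A subgroup of order `p ^ 3`, exponent `p`, with centre of order `p` containing the commutators. -/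
structure Cube (p : ℕ) (P : Subgroup G) (z : G) : Prop where
  card : Nat.card P = p ^ 3
  exp : ∀ w ∈ P, w ^ p = 1
  mem : z ∈ P
  ord : orderOf z = p
  cen : ∀ w ∈ P, w * z = z * w
  comm : ∀ a ∈ P, ∀ b ∈ P, a * b * a⁻¹ * b⁻¹ ∈ zpowers z
  ctr : ∀ w ∈ P, (∀ v ∈ P, v * w = w * v) → w ∈ zpowers z

theorem Cube.conj {P : Subgroup G} {z : G} (h : Cube p P z) (g : G) :
    Cube p (P.map (MulAut.conj g).toMonoidHom) (g * z * g⁻¹) := by
  have mem_iff : ∀ w, w ∈ P.map (MulAut.conj g).toMonoidHom ↔ g⁻¹ * w * g ∈ P := fun w => by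
    constructor
    · rintro ⟨v, hv, rfl⟩; simpa [MulAut.conj_apply, mul_assoc] using hv
    · intro hw; exact ⟨_, hw, by simp [MulAut.conj_apply, mul_assoc]⟩
  have zp : ∀ w, g⁻¹ * w * g ∈ zpowers z → w ∈ zpowers (g * z * g⁻¹) := by
    rintro w ⟨i, hi⟩
    refine ⟨i, ?_⟩
    show (g * z * g⁻¹) ^ i = w
    rw [conj_zpow, show z ^ i = _ from hi]; group
  refine ⟨?_, fun w hw => ?_, (mem_iff _).2 (by simpa [mul_assoc] using h.mem), ?_, fun w hw => ?_,
    fun a ha b hb => zp _ ?_, fun w hw hall => zp _ (h.ctr _ ((mem_iff w).1 hw) fun v hv => ?_)⟩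
  · rw [card_map_of_injective (MulAut.conj g).injective, h.card]
  · have hh := h.exp _ ((mem_iff w).1 hw)
    have : (g⁻¹ * w * g) ^ p = g⁻¹ * w ^ p * g := by
      have := conj_pow (a := g⁻¹) (b := w) (i := p); simpa using this
    rw [this] at hh
    calc w ^ p = g * (g⁻¹ * w ^ p * g) * g⁻¹ := by group
      _ = 1 := by rw [hh]; group
  · rw [← MulAut.conj_apply, MulEquiv.orderOf_eq, h.ord]
  · have hh := h.cen _ ((mem_iff w).1 hw)
    calc w * (g * z * g⁻¹) = g * ((g⁻¹ * w * g) * z) * g⁻¹ := by group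
      _ = g * (z * (g⁻¹ * w * g)) * g⁻¹ := by rw [hh]
      _ = _ := by group
  · rw [show g⁻¹ * (a * b * a⁻¹ * b⁻¹) * g = (g⁻¹ * a * g) * (g⁻¹ * b * g) * (g⁻¹ * a * g)⁻¹ *
      (g⁻¹ * b * g)⁻¹ by group]
    exact h.comm _ ((mem_iff a).1 ha) _ ((mem_iff b).1 hb)
  · have hh := hall (g * v * g⁻¹) ((mem_iff _).2 (by simpa [mul_assoc] using hv))
    calc v * (g⁻¹ * w * g) = g⁻¹ * ((g * v * g⁻¹) * w) * g := by group
      _ = g⁻¹ * (w * (g * v * g⁻¹)) * g := by rw [hh]
      _ = _ := by group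

theorem zpowers_eq_of_mem [Fact p.Prime] {a b : G} (ha : orderOf a = p) (hb : b ∈ zpowers a)
    (hb1 : b ≠ 1) : zpowers b = zpowers a := by
  have hbp : orderOf b = p := by
    have h1 : orderOf b ∣ p := ha ▸ orderOf_dvd_of_mem_zpowers hb
    exact ((Nat.dvd_prime (Fact.out)).1 h1).resolve_left (fun h => hb1 (orderOf_eq_one_iff.1 h))
  exact eq_of_le_of_card_ge (zpowers_le.2 hb) (by rw [Nat.card_zpowers, Nat.card_zpowers, ha, hbp])

/-- A non-central element is moved by every power of the central element. -/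
theorem Cube.exists_shift [Fact p.Prime] {R : Subgroup G} {c a t : G} (h : Cube p R c) (ha : a ∈ R)
    (hnc : ∃ y ∈ R, y * a ≠ a * y) (ht : t ∈ zpowers c) : ∃ y ∈ R, y * a * y⁻¹ = t * a := by
  obtain ⟨y, hy, hya⟩ := hnc
  obtain ⟨s, hs⟩ : ∃ s, s = y * a * y⁻¹ * a⁻¹ := ⟨_, rfl⟩
  have hsc : s ∈ zpowers c := hs ▸ h.comm y hy a ha
  have hs1 : s ≠ 1 := fun e => hya (mul_inv_eq_iff_eq_mul.1 (mul_inv_eq_one.1 (hs ▸ e)))
  rw [← zpowers_eq_of_mem h.ord hsc hs1] at ht
  obtain ⟨j, hj⟩ := (Submonoid.mem_powers_iff _ _).1 (mem_powers_iff_mem_zpowers.2 ht)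
  have hys : y * s = s * y := by
    obtain ⟨i, hi⟩ := hsc
    rw [← hi]
    exact (Commute.zpow_right (h.cen y hy : Commute y c) i).eq
  refine ⟨y ^ j, pow_mem hy j, ?_⟩
  subst hj
  clear ht
  induction j with
  | zero => simp
  | succ j ih =>
    have hsj : Commute y (s ^ j) := Commute.pow_right hys j
    calc y ^ (j + 1) * a * (y ^ (j + 1))⁻¹ = y * (y ^ j * a * (y ^ j)⁻¹) * y⁻¹ := by
          rw [pow_succ']; group
      _ = (y * s ^ j) * a * y⁻¹ := by rw [ih]; group
      _ = s ^ j * (y * a * y⁻¹) := by rw [hsj.eq]; group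
      _ = s ^ j * (s * a) := by rw [show s * a = y * a * y⁻¹ by rw [hs]; group]
      _ = s ^ (j + 1) * a := by rw [← mul_assoc, ← pow_succ]

/-- Two subgroups of order `p ^ 2` in a cube. -/
theorem Cube.mem_of_card_sq [Fact p.Prime] {P : Subgroup G} {z : G} (h : Cube p P z) (hna : ∃ a ∈ P, ∃ b ∈ P, a * b ≠ b * a)
    {E : Subgroup G} (hE : E ≤ P) (hEc : Nat.card E = p ^ 2) : z ∈ E := by
  have hp : p.Prime := Fact.out
  by_contra hz
  obtain ⟨a, ha, b, hb, hab⟩ := hna
  have hab' : IsMulCommutative E := IsPGroup.isMulCommutative_of_card_eq_prime_sq hEc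
  let L : Subgroup G := closure ((E : Set G) ∪ {z})
  have hL : IsMulCommutative L := by
    refine isMulCommutative_closure ?_
    rintro x (hx | rfl) y (hy | rfl)
    · exact congrArg (Subtype.val : E → G) (hab'.is_comm.comm ⟨x, hx⟩ ⟨y, hy⟩)
    · exact h.cen x (hE hx)
    · exact (h.cen y (hE hy)).symm
    · rfl
  have hLP : L ≤ P := (closure_le _).2 (Set.union_subset hE (by rintro x rfl; exact h.mem))
  have hlt : E < L := lt_of_le_of_ne (fun x hx => subset_closure (Or.inl hx))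
    (fun e => hz (e ▸ subset_closure (Or.inr rfl)))
  obtain ⟨k, hk, hk'⟩ := (Nat.dvd_prime_pow hp).1 (h.card ▸ card_dvd_of_le hLP)
  have hk3 : k = 3 := by
    by_contra hne
    refine hlt.ne (eq_of_le_of_card_ge hlt.le ?_)
    rw [hk', hEc]; exact Nat.pow_le_pow_right hp.pos (by omega)
  have hLP' : L = P := eq_of_le_of_card_ge hLP (by rw [hk', hk3, h.card])
  exact hab (congrArg (Subtype.val : L → G) (hL.is_comm.comm ⟨a, hLP' ▸ ha⟩ ⟨b, hLP' ▸ hb⟩))

variable [hp : Fact p.Prime]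

set_option maxHeartbeats 1600000 in
theorem no_cube (hp2 : p ≠ 2)
    (hD : ∀ H K : Subgroup G, IsPGroup p H → IsPGroup p K → Nat.card H = Nat.card K →
      ∃ g : G, K = H.map (MulAut.conj g).toMonoidHom)
    (P : Sylow p G) {z : G} (h : Cube p (P : Subgroup G) z)
    (hna : ∃ a ∈ (P : Subgroup G), ∃ b ∈ (P : Subgroup G), a * b ≠ b * a)
    (h2 : ∀ T : Subgroup G, IsPGroup 2 T → ∀ a ∈ T, ∀ b ∈ T, a * b * a⁻¹ * b⁻¹ ∈ zpowers (b ^ 2)) :
    False := by
  have hpp : p.Prime := hp.out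
  have hP := P.2
  obtain ⟨a₀, ha₀, b₀, hb₀, hab₀⟩ := hna
  have hna : ∃ a ∈ (P : Subgroup G), ∃ b ∈ (P : Subgroup G), a * b ≠ b * a := ⟨a₀, ha₀, b₀, hb₀, hab₀⟩
  have ha₀z : a₀ ∉ zpowers z := by
    rintro ⟨i, rfl⟩
    exact hab₀ ((Commute.zpow_right (h.cen b₀ hb₀ : Commute b₀ z) i).eq).symm
  have hzp : ∀ {w : G}, w ∈ (P : Subgroup G) → w ∉ zpowers z → orderOf w = p := fun hw hwz =>
    orderOf_eq_prime (h.exp _ hw) (fun e => hwz (e ▸ one_mem _))
  have isp : ∀ {w : G}, orderOf w = p → IsPGroup p (zpowers w) := fun hw =>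
    IsPGroup.of_card (n := 1) (by rw [Nat.card_zpowers, hw, pow_one])
  -- a non-central conjugate of the central element
  obtain ⟨g, hg⟩ := hD (zpowers z) (zpowers a₀) (isp h.ord) (isp (hzp ha₀ ha₀z))
    (by rw [Nat.card_zpowers, Nat.card_zpowers, h.ord, hzp ha₀ ha₀z])
  set x := g * z * g⁻¹ with hx
  have hxa : zpowers x = zpowers a₀ := by
    rw [hg, MonoidHom.map_zpowers]; rfl
  have hxP : x ∈ (P : Subgroup G) := zpowers_le.2 ha₀ (hxa ▸ mem_zpowers x)
  have hxz : x ∉ zpowers z := fun e => ha₀z (zpowers_le.2 e (hxa ▸ mem_zpowers a₀))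
  have hxo : orderOf x = p := hzp hxP hxz
  have hxnc : ∃ y ∈ (P : Subgroup G), y * x ≠ x * y := by
    by_contra hall
    push Not at hall
    exact hxz (h.ctr x hxP hall)
  -- the elementary subgroup
  let E : Subgroup G := closure {z, x}
  have hzE : z ∈ E := subset_closure (by simp)
  have hxE : x ∈ E := subset_closure (by simp)
  have hEP : E ≤ (P : Subgroup G) := (closure_le _).2 (by
    rintro w (rfl | rfl)
    · exact h.mem
    · exact hxP)
  have hEab : IsMulCommutative E := by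
    refine isMulCommutative_closure ?_
    rintro a (rfl | rfl) b (rfl | rfl)
    all_goals first | rfl | exact h.cen _ hxP | exact (h.cen _ hxP).symm
  have Ecomm : ∀ a ∈ E, ∀ b ∈ E, a * b = b * a := fun a ha b hb =>
    congrArg (Subtype.val : E → G) (hEab.is_comm.comm ⟨a, ha⟩ ⟨b, hb⟩)
  have hEc : Nat.card E = p ^ 2 := by
    obtain ⟨k, hk, hk'⟩ := (Nat.dvd_prime_pow hpp).1 (h.card ▸ card_dvd_of_le hEP)
    have hk2 : 2 ≤ k := by
      by_contra hlt
      refine hxz ?_
      rw [eq_of_le_of_card_ge (zpowers_le.2 hzE) (by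
        rw [hk', Nat.card_zpowers, h.ord]
        calc p ^ k ≤ p ^ 1 := Nat.pow_le_pow_right hpp.pos (by omega)
          _ = p := pow_one p)]
      exact hxE
    have hk3 : k ≠ 3 := by
      rintro rfl
      have e : E = (P : Subgroup G) := eq_of_le_of_card_ge hEP (by rw [hk', h.card])
      exact hab₀ (Ecomm a₀ (e ▸ ha₀) b₀ (e ▸ hb₀))
    rw [hk', show k = 2 by omega]
  have hCE : ∀ w ∈ (P : Subgroup G), w * x = x * w → w ∈ E := by
    intro w hw hwx
    let C : Subgroup G := (P : Subgroup G) ⊓ centralizer {x}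
    have hEC : E ≤ C := le_inf hEP fun a ha =>
      mem_centralizer_singleton_iff.2 (Ecomm a ha x hxE)
    obtain ⟨k, hk, hk'⟩ := (Nat.dvd_prime_pow hpp).1 (h.card ▸ card_dvd_of_le (inf_le_left : C ≤ P))
    have hk3 : k ≠ 3 := by
      rintro rfl
      have e : C = (P : Subgroup G) := eq_of_le_of_card_ge inf_le_left (by rw [hk', h.card])
      obtain ⟨y, hy, hyx⟩ := hxnc
      exact hyx (mem_centralizer_singleton_iff.1 (e ▸ hy : y ∈ C).2)
    have e : E = C := eq_of_le_of_card_ge hEC (by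
      rw [hk', hEc]; exact Nat.pow_le_pow_right hpp.pos (by omega))
    rw [e]
    exact ⟨hw, mem_centralizer_singleton_iff.2 hwx⟩
  have hcommE : ∀ a ∈ (P : Subgroup G), ∀ b ∈ (P : Subgroup G), a * b * a⁻¹ * b⁻¹ ∈ E :=
    fun a ha b hb => zpowers_le.2 hzE (h.comm a ha b hb)
  have hPN : (P : Subgroup G) ≤ normalizer (E : Set G) := by
    intro w hw
    refine mem_normalizer_fintype fun a ha => ?_
    have := mul_mem (hcommE w hw a (hEP ha)) ha
    rwa [inv_mul_cancel_right] at this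
  -- a second Sylow subgroup, centralising `x`
  have hEp : IsPGroup p E := hP.to_le hEP
  have hEx : E ≤ centralizer {x} := fun a ha => mem_centralizer_singleton_iff.2 (Ecomm a ha x hxE)
  have hgP : (P : Subgroup G).map (MulAut.conj g).toMonoidHom ≤ centralizer {x} := fun a ha =>
    mem_centralizer_singleton_iff.2 ((h.conj g).cen a ha)
  obtain ⟨R₀, hR₀⟩ := (hEp.comap_of_injective _ (centralizer {x}).subtype_injective :
    IsPGroup p (E.subgroupOf (centralizer {x}))).exists_le_sylow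
  set R : Subgroup G := (R₀ : Subgroup (centralizer {x})).map (centralizer {x}).subtype with hR
  have hRp : IsPGroup p R := R₀.2.map _
  have hER : E ≤ R := by
    rw [← map_subgroupOf_eq_of_le hEx, hR]
    exact map_mono hR₀
  have hRC : R ≤ centralizer {x} := map_subtype_le _
  have hRcard : Nat.card R = p ^ 3 := by
    obtain ⟨S₁, hS₁⟩ := hRp.exists_le_sylow
    refine le_antisymm ?_ ?_
    · calc Nat.card R ≤ Nat.card (S₁ : Subgroup G) := card_le_of_le hS₁
        _ = Nat.card (P : Subgroup G) := by rw [S₁.card_eq_multiplicity, P.card_eq_multiplicity]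
        _ = p ^ 3 := h.card
    · rw [hR, card_map_of_injective (centralizer {x}).subtype_injective, R₀.card_eq_multiplicity]
      obtain ⟨S₂, hS₂⟩ := (((hP.map (MulAut.conj g).toMonoidHom)).comap_of_injective _
        (centralizer {x}).subtype_injective :
        IsPGroup p (((P : Subgroup G).map (MulAut.conj g).toMonoidHom).subgroupOf _)).exists_le_sylow
      rw [← S₂.card_eq_multiplicity]
      calc p ^ 3 = Nat.card ((P : Subgroup G).map (MulAut.conj g).toMonoidHom) := (h.conj g).card.symm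
        _ = Nat.card (((P : Subgroup G).map (MulAut.conj g).toMonoidHom).subgroupOf (centralizer {x})) :=
            (Nat.card_congr (subgroupOfEquivOfLe hgP).toEquiv).symm
        _ ≤ _ := card_le_of_le hS₂
  obtain ⟨k, hk⟩ := hD (P : Subgroup G) R hP hRp (by rw [hRcard, h.card])
  have hRcube : Cube p R (k * z * k⁻¹) := hk ▸ h.conj k
  have hxR : zpowers (k * z * k⁻¹) = zpowers x := by
    refine (zpowers_eq_of_mem hRcube.ord (hRcube.ctr x (hER hxE) fun v hv => ?_)
      (fun e => hxz (e ▸ one_mem _))).symm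
    exact mem_centralizer_singleton_iff.1 (hRC hv)
  have hRN : R ≤ normalizer (E : Set G) := by
    intro w hw
    refine mem_normalizer_fintype fun a ha => ?_
    have h1 : w * a * w⁻¹ * a⁻¹ ∈ E := by
      have := hRcube.comm w hw a (hER ha)
      rw [hxR] at this
      exact zpowers_le.2 hxE this
    have := mul_mem h1 ha
    rwa [inv_mul_cancel_right] at this
  have hznc : ∃ y ∈ R, y * z ≠ z * y := by
    by_contra hall
    push Not at hall
    have : z ∈ zpowers x := hxR ▸ hRcube.ctr z (hER hzE) hall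
    exact hxz ((zpowers_eq_of_mem hxo this (fun e => by
      have := h.ord; rw [e, orderOf_one] at this; exact hpp.one_lt.ne this)).symm ▸ mem_zpowers x)
  obtain ⟨u, hu, hux⟩ := h.exists_shift hxP hxnc (mem_zpowers z)
  obtain ⟨v, hv, hvz⟩ := hRcube.exists_shift (hER hzE) hznc (t := x⁻¹)
    (hxR ▸ inv_mem (mem_zpowers x))
  have huz : u * z * u⁻¹ = z := by rw [h.cen u hu, mul_inv_cancel_right]
  have hvx : v * x * v⁻¹ = x := by
    rw [mem_centralizer_singleton_iff.1 (hRC hv), mul_inv_cancel_right]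
  have hxzc : x * z = z * x := h.cen x hxP
  -- `n` inverts `E`
  let r := u * v * u
  have cj : ∀ a b c : G, (a * b) * c * (a * b)⁻¹ = a * (b * c * b⁻¹) * a⁻¹ := fun a b c => by group
  have hrx : r * x * r⁻¹ = z := by
    show (u * v * u) * x * (u * v * u)⁻¹ = z
    rw [cj (u * v), hux, cj]
    rw [show v * (z * x) * v⁻¹ = (v * z * v⁻¹) * (v * x * v⁻¹) by group, hvz, hvx]
    rw [show x⁻¹ * z * x = z by rw [mul_assoc, ← hxzc, inv_mul_cancel_left]]
    exact huz
  have hrz : r * z * r⁻¹ = x⁻¹ := by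
    show (u * v * u) * z * (u * v * u)⁻¹ = x⁻¹
    rw [cj (u * v), huz, cj, hvz,
      show u * (x⁻¹ * z) * u⁻¹ = (u * x * u⁻¹)⁻¹ * (u * z * u⁻¹) by group, hux, huz]
    rw [mul_inv_rev, mul_assoc, inv_mul_cancel, mul_one]
  have hrN : r ∈ normalizer (E : Set G) := mul_mem (mul_mem (hPN hu) (hRN hv)) (hPN hu)
  set n := r * r with hn
  have hnx : n * x * n⁻¹ = x⁻¹ := by rw [hn, cj, hrx, hrz]
  have hnz : n * z * n⁻¹ = z⁻¹ := by
    rw [hn, cj, hrz, show r * x⁻¹ * r⁻¹ = (r * x * r⁻¹)⁻¹ by group, hrx]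
  have hnN : n ∈ normalizer (E : Set G) := mul_mem hrN hrN
  -- move `n` into the normaliser of `P`
  set M : Subgroup G := (P : Subgroup G) ⊔ centralizer (E : Set G) with hM
  have hPC : (P : Subgroup G) ≤ normalizer (centralizer (E : Set G) : Set G) := by
    intro w hw
    refine mem_normalizer_fintype fun a ha => mem_centralizer_iff.2 fun e he => ?_
    have he' : w⁻¹ * e * w ∈ E := by
      have := (mem_normalizer_iff.1 (inv_mem (hPN hw)) e).1 he
      simpa using this
    have := mem_centralizer_iff.1 ha _ he'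
    calc e * (w * a * w⁻¹) = w * ((w⁻¹ * e * w) * a) * w⁻¹ := by group
      _ = w * (a * (w⁻¹ * e * w)) * w⁻¹ := by rw [this]
      _ = _ := by group
  have inC : ∀ c : G, c * x * c⁻¹ = x → c * z * c⁻¹ = z → c ∈ centralizer (E : Set G) := by
    intro c h1 h3
    rw [centralizer_closure]
    rintro e (rfl | rfl)
    · exact (mul_inv_eq_iff_eq_mul.1 h3).symm
    · exact (mul_inv_eq_iff_eq_mul.1 h1).symm
  have hnPM : (P : Subgroup G).map (MulAut.conj n).toMonoidHom ≤ M := by
    rintro - ⟨w, hw, rfl⟩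
    show n * w * n⁻¹ ∈ M
    obtain ⟨i, hi⟩ := h.comm w hw x hxP
    have hwx : w * x * w⁻¹ = z ^ i * x := by rw [show z ^ i = _ from hi]; group
    have hwz : w * z * w⁻¹ = z := by rw [h.cen w hw, mul_inv_cancel_right]
    rw [show n * w * n⁻¹ = (n * w * n⁻¹ * w⁻¹) * w by group]
    refine mul_mem (mem_sup_right (inC _ ?_ ?_)) (mem_sup_left hw)
    · rw [show n * w * n⁻¹ * w⁻¹ * x * (n * w * n⁻¹ * w⁻¹)⁻¹ =
        n * (w * (n⁻¹ * (w⁻¹ * x * w) * n) * w⁻¹) * n⁻¹ by group]
      have e1 : w⁻¹ * x * w = z ^ (-i) * x := by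
        have hc : Commute w (z ^ (-i)) := Commute.zpow_right (h.cen w hw) _
        calc w⁻¹ * x * w = w⁻¹ * (z ^ (-i) * (w * x * w⁻¹)) * w := by rw [hwx]; group
          _ = z ^ (-i) * x := by rw [← mul_assoc w⁻¹, (hc.inv_left).eq]; group
      have hn' : ∀ a : G, n * a * n⁻¹ = a⁻¹ → n⁻¹ * a * n = a⁻¹ := fun a ha => by
        calc n⁻¹ * a * n = n⁻¹ * (a⁻¹)⁻¹ * n := by rw [inv_inv]
          _ = n⁻¹ * (n * a * n⁻¹)⁻¹ * n := by rw [ha]
          _ = a⁻¹ := by group
      have e2 : n⁻¹ * (z ^ (-i) * x) * n = z ^ i * x⁻¹ := by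
        calc n⁻¹ * (z ^ (-i) * x) * n = (n⁻¹ * z * n) ^ (-i) * (n⁻¹ * x * n) := by
              rw [show n⁻¹ * z * n = n⁻¹ * z * n⁻¹⁻¹ by rw [inv_inv], conj_zpow]; group
          _ = z ^ i * x⁻¹ := by rw [hn' z hnz, hn' x hnx]; group
      have hc : Commute w (z ^ i) := Commute.zpow_right (h.cen w hw) _
      have hzx : Commute x (z ^ i) := Commute.zpow_right hxzc _
      have e3 : w * (z ^ i * x⁻¹) * w⁻¹ = x⁻¹ := by
        calc w * (z ^ i * x⁻¹) * w⁻¹ = (w * z ^ i * w⁻¹) * (w * x * w⁻¹)⁻¹ := by group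
          _ = x⁻¹ := by
              rw [hc.eq, hwx, mul_inv_cancel_right, mul_inv_rev, ← mul_assoc, ← (hzx.inv_left).eq]
              group
      rw [e1, e2, e3, show n * x⁻¹ * n⁻¹ = (n * x * n⁻¹)⁻¹ by group, hnx, inv_inv]
    · rw [show n * w * n⁻¹ * w⁻¹ * z * (n * w * n⁻¹ * w⁻¹)⁻¹ =
        n * (w * (n⁻¹ * (w⁻¹ * z * w) * n) * w⁻¹) * n⁻¹ by group]
      rw [show w⁻¹ * z * w = z by rw [mul_assoc, ← h.cen w hw, inv_mul_cancel_left],
        show n⁻¹ * z * n = z⁻¹ by
          calc n⁻¹ * z * n = n⁻¹ * (n * z * n⁻¹)⁻¹ * n := by rw [hnz, inv_inv]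
            _ = z⁻¹ := by group,
        show w * z⁻¹ * w⁻¹ = (w * z * w⁻¹)⁻¹ by group, hwz,
        show n * z⁻¹ * n⁻¹ = (n * z * n⁻¹)⁻¹ by group, hnz, inv_inv]
  have hPM : (P : Subgroup G) ≤ M := le_sup_left
  obtain ⟨m, hm⟩ : ∃ m : M,
      ((P : Subgroup G).map (MulAut.conj n).toMonoidHom).map (MulAut.conj (m : G)).toMonoidHom =
        (P : Subgroup G) := by
    let P₁ : Sylow p M := P.subtype hPM
    let P₂ : Sylow p M := (MulAut.conj n • P).subtype (by
      rintro a ha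
      obtain ⟨w, hw, rfl⟩ := ha
      exact hnPM ⟨w, hw, rfl⟩)
    obtain ⟨m, hm⟩ := MulAction.exists_smul_eq M P₂ P₁
    refine ⟨m, ?_⟩
    ext a
    constructor
    · rintro ⟨b, hb, rfl⟩
      obtain ⟨w, hw, rfl⟩ := hb
      have hnw : n * w * n⁻¹ ∈ M := hnPM ⟨w, hw, rfl⟩
      have : MulAut.conj m ⟨n * w * n⁻¹, hnw⟩ ∈ (P₁ : Subgroup M) := by
        rw [← hm]
        exact ⟨⟨n * w * n⁻¹, hnw⟩, ⟨w, hw, rfl⟩, rfl⟩
      exact this
    · intro ha
      have hmem : (⟨a, hPM ha⟩ : M) ∈ (P₁ : Subgroup M) := ha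
      rw [← hm] at hmem
      obtain ⟨b, hb, hb2⟩ := hmem
      exact ⟨b, hb, congrArg Subtype.val hb2⟩
  have hmM : (m : G) ∈ (P : Subgroup G) ⊔ centralizer (E : Set G) := m.2
  rw [← SetLike.mem_coe, coe_mul_of_left_le_normalizer_right _ _ hPC] at hmM
  obtain ⟨w, hw, c, hc, hwc⟩ := hmM
  obtain ⟨k₁, hk₁⟩ : ∃ k₁, k₁ = c * n := ⟨_, rfl⟩
  have hk₁P : k₁ ∈ normalizer ((P : Subgroup G) : Set G) := by
    refine mem_normalizer_fintype fun a ha => ?_
    have h1 : (m : G) * (n * a * n⁻¹) * (m : G)⁻¹ ∈ (P : Subgroup G) := hm ▸ ⟨_, ⟨a, ha, rfl⟩, rfl⟩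
    have := mul_mem (mul_mem (inv_mem hw) h1) hw
    rw [← hwc] at this
    show _ ∈ (P : Subgroup G)
    convert this using 1
    rw [hk₁]; group
  have hcE : ∀ e ∈ E, c * e * c⁻¹ = e := fun e he => by
    rw [← mem_centralizer_iff.1 hc e he, mul_inv_cancel_right]
  have hk₁x : k₁ * x * k₁⁻¹ = x⁻¹ := by
    rw [hk₁, cj, hnx, hcE _ (inv_mem hxE)]
  have hk₁z : k₁ * z * k₁⁻¹ = z⁻¹ := by
    rw [hk₁, cj, hnz, hcE _ (inv_mem hzE)]
  -- its 2-part
  obtain ⟨a, b, hb, hab⟩ := Nat.exists_eq_pow_mul_and_not_dvd (orderOf_pos k₁).ne' 2 (by norm_num)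
  set t := k₁ ^ b with ht
  have ht2 : ∃ i, orderOf t = 2 ^ i := by
    refine ⟨a, ?_⟩
    rw [ht, orderOf_pow_of_dvd (by rintro rfl; simp at hb) (hab ▸ dvd_mul_left b _), hab,
      Nat.mul_div_cancel _ (Nat.pos_of_ne_zero (by rintro rfl; simp at hb))]
  have hbodd : Odd b := Nat.odd_iff.2 (Nat.two_dvd_ne_zero.1 hb)
  have hpowinv : ∀ e, k₁ * e * k₁⁻¹ = e⁻¹ → t * e * t⁻¹ = e⁻¹ := by
    intro e he
    obtain ⟨j, rfl⟩ := hbodd
    rw [ht]
    clear ht ht2 hab hb
    induction j with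
    | zero => simpa using he
    | succ j ih =>
      rw [show 2 * (j + 1) + 1 = (2 * j + 1) + 1 + 1 by ring, pow_succ', pow_succ', cj, cj, ih,
        show k₁ * e⁻¹ * k₁⁻¹ = (k₁ * e * k₁⁻¹)⁻¹ by group, he, inv_inv, he]
  have htx := hpowinv x hk₁x
  have htz := hpowinv z hk₁z
  have htP : t ∈ normalizer ((P : Subgroup G) : Set G) := pow_mem hk₁P b
  have htE : ∀ e ∈ E, t * e * t⁻¹ = e⁻¹ := by
    intro e he
    induction he using Subgroup.closure_induction with
    | mem e he =>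
      rcases he with rfl | rfl
      · exact htz
      · exact htx
    | one => simp
    | mul e f he hf h1 h3 =>
      rw [show t * (e * f) * t⁻¹ = (t * e * t⁻¹) * (t * f * t⁻¹) by group, h1, h3, ← mul_inv_rev,
        Ecomm e he f hf]
    | inv e _ h1 => rw [show t * e⁻¹ * t⁻¹ = (t * e * t⁻¹)⁻¹ by group, h1]
  -- `t` is trivial on `P / E`
  have htr : ∀ v ∈ (P : Subgroup G), t * v * t⁻¹ * v⁻¹ ∈ E := by
    intro v hv
    have hv' : t * v * t⁻¹ ∈ (P : Subgroup G) := (mem_normalizer_iff.1 htP v).1 hv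
    obtain ⟨i, hi⟩ := h.comm v hv x hxP
    have hvx' : v * x * v⁻¹ = z ^ i * x := by rw [show z ^ i = _ from hi]; group
    have hzx : Commute x (z ^ i) := Commute.zpow_right hxzc _
    have key : (t * v * t⁻¹) * x * (t * v * t⁻¹)⁻¹ = z ^ i * x := by
      calc (t * v * t⁻¹) * x * (t * v * t⁻¹)⁻¹ = t * (v * (t⁻¹ * x * t) * v⁻¹) * t⁻¹ := by group
        _ = t * (v * x * v⁻¹)⁻¹ * t⁻¹ := by
          rw [show t⁻¹ * x * t = x⁻¹ by
            calc t⁻¹ * x * t = t⁻¹ * (t * x * t⁻¹)⁻¹ * t := by rw [htx, inv_inv]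
              _ = x⁻¹ := by group]
          group
        _ = t * (z ^ i * x)⁻¹ * t⁻¹ := by rw [hvx']
        _ = z ^ i * x := by
          rw [htE _ (inv_mem (mul_mem (zpow_mem hzE i) hxE)), inv_inv]
    have h2' : (v⁻¹ * (t * v * t⁻¹)) ∈ E := by
      refine hCE _ (mul_mem (inv_mem hv) hv') ?_
      refine mul_inv_eq_iff_eq_mul.1 ?_
      calc v⁻¹ * (t * v * t⁻¹) * x * (v⁻¹ * (t * v * t⁻¹))⁻¹
          = v⁻¹ * ((t * v * t⁻¹) * x * (t * v * t⁻¹)⁻¹) * v := by group
        _ = v⁻¹ * (v * x * v⁻¹) * v := by rw [key, hvx']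
        _ = x := by group
    have := (mem_normalizer_iff.1 (hPN hv) _).1 h2'
    convert this using 1
    group
  have ht2c : ∀ v ∈ (P : Subgroup G), t ^ 2 * v * (t ^ 2)⁻¹ = v := by
    intro v hv
    have e := htE _ (htr v hv)
    rw [pow_two, cj]
    calc t * (t * v * t⁻¹) * t⁻¹ = t * (t * v * t⁻¹ * v⁻¹) * t⁻¹ * (t * v * t⁻¹) := by group
      _ = v := by rw [e]; group
  have hchar : ∀ v ∈ (P : Subgroup G), t * v * t⁻¹ * v = 1 → v ∈ E := by
    intro v hv hv1
    have h1 := htr v hv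
    rw [show t * v * t⁻¹ = v⁻¹ from mul_eq_one_iff_eq_inv.1 hv1] at h1
    obtain ⟨j, hj⟩ := (hpp.odd_of_ne_two hp2)
    have h3 := inv_mem (pow_mem h1 (j + 1))
    rw [← pow_two, inv_pow, inv_pow, inv_inv, ← pow_mul, show 2 * (j + 1) = p + 1 by omega, pow_succ,
      h.exp v hv, one_mul] at h3
    exact h3
  -- the orbit of `E`
  set N := normalizer ((P : Subgroup G) : Set G) with hN
  let Ω := {L : Subgroup G // L ≤ (P : Subgroup G) ∧ Nat.card L = p ^ 2}
  have hmaps : ∀ q : N, E.map (MulAut.conj (q : G)).toMonoidHom ≤ (P : Subgroup G) := by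
    rintro ⟨q, hq⟩ - ⟨e, he, rfl⟩
    exact (mem_normalizer_iff.1 hq e).1 (hEP he)
  let f : N → Ω := fun q => ⟨_, hmaps q, by
    rw [card_map_of_injective (MulAut.conj (q : G)).injective, hEc]⟩
  let St : Subgroup N := (normalizer (E : Set G)).subgroupOf N
  have hfeq : ∀ q q' : N, f q = f q' ↔ q⁻¹ * q' ∈ St := by
    intro q q'
    show _ ↔ ((q : G)⁻¹ * (q' : G)) ∈ normalizer (E : Set G)
    rw [mem_normalizer_iff]
    have mq : ∀ (g e : G), e ∈ E.map (MulAut.conj g).toMonoidHom ↔ g⁻¹ * e * g ∈ E := by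
      intro g e
      constructor
      · rintro ⟨e', he', rfl⟩
        rw [show g⁻¹ * (MulAut.conj g).toMonoidHom e' * g = g⁻¹ * (g * e' * g⁻¹) * g from rfl,
          show g⁻¹ * (g * e' * g⁻¹) * g = e' by group]
        exact he'
      · intro he
        exact ⟨_, he, show g * (g⁻¹ * e * g) * g⁻¹ = e by group⟩
    constructor
    · intro hh e
      have hh' := SetLike.ext_iff.1 (congrArg Subtype.val hh) ((q' : G) * e * (q' : G)⁻¹)
      rw [mq, mq, show (q' : G)⁻¹ * ((q' : G) * e * (q' : G)⁻¹) * (q' : G) = e by group] at hh'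
      rw [show ((q : G)⁻¹ * (q' : G)) * e * ((q : G)⁻¹ * (q' : G))⁻¹ =
        (q : G)⁻¹ * ((q' : G) * e * (q' : G)⁻¹) * (q : G) by group]
      exact hh'.symm
    · intro hh
      refine Subtype.ext (SetLike.ext fun e => ?_)
      have hh' := hh ((q' : G)⁻¹ * e * (q' : G))
      rw [show ((q : G)⁻¹ * (q' : G)) * ((q' : G)⁻¹ * e * (q' : G)) * ((q : G)⁻¹ * (q' : G))⁻¹ =
        (q : G)⁻¹ * e * (q : G) by group] at hh'
      exact ((mq _ _).trans hh'.symm).trans (mq _ _).symm
  have fsurj : ∀ L : Ω, ∃ q, f q = L := by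
    rintro ⟨L, hL, hLc⟩
    obtain ⟨k, hk⟩ := hD E L hEp (hP.to_le hL) (by rw [hEc, hLc])
    have hLN : (P : Subgroup G) ≤ normalizer (L : Set G) := by
      intro w hw
      refine mem_normalizer_fintype fun e he => ?_
      have hzL : z ∈ L := h.mem_of_card_sq hna hL hLc
      have := mul_mem (zpowers_le.2 hzL (h.comm w hw e (hL he))) he
      rwa [inv_mul_cancel_right] at this
    have hkPN : (P : Subgroup G).map (MulAut.conj k).toMonoidHom ≤ normalizer (L : Set G) := by
      rintro - ⟨w, hw, rfl⟩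
      refine mem_normalizer_fintype fun e he => ?_
      rw [hk] at he ⊢
      obtain ⟨e', he', rfl⟩ := he
      refine ⟨w * e' * w⁻¹, (mem_normalizer_iff.1 (hPN hw) e').1 he', ?_⟩
      simp only [MulEquiv.coe_toMonoidHom, MulAut.conj_apply]
      group
    let P₁ : Sylow p (normalizer (L : Set G)) := P.subtype hLN
    let P₂ : Sylow p (normalizer (L : Set G)) := (MulAut.conj k • P).subtype (by
      rintro a ha
      obtain ⟨w, hw, rfl⟩ := ha
      exact hkPN ⟨w, hw, rfl⟩)
    obtain ⟨s, hs⟩ := MulAction.exists_smul_eq (normalizer (L : Set G)) P₂ P₁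
    have hsk : (s : G) * k ∈ N := by
      refine mem_normalizer_fintype fun a ha => ?_
      have hka : k * a * k⁻¹ ∈ normalizer (L : Set G) := hkPN ⟨a, ha, rfl⟩
      have : MulAut.conj s ⟨k * a * k⁻¹, hka⟩ ∈ (P₁ : Subgroup _) := by
        rw [← hs]; exact ⟨⟨k * a * k⁻¹, hka⟩, ⟨a, ha, rfl⟩, rfl⟩
      have h9 : (s : G) * (k * a * k⁻¹) * (s : G)⁻¹ ∈ (P : Subgroup G) := this
      show _ ∈ (P : Subgroup G)
      convert h9 using 1
      group
    refine ⟨⟨_, hsk⟩, Subtype.ext ?_⟩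
    show E.map (MulAut.conj ((s : G) * k)).toMonoidHom = L
    ext e
    constructor
    · rintro ⟨e', he', rfl⟩
      have h8 : k * e' * k⁻¹ ∈ L := hk ▸ ⟨e', he', rfl⟩
      have := (mem_normalizer_iff.1 s.2 _).1 h8
      simp only [MulEquiv.coe_toMonoidHom, MulAut.conj_apply]
      convert this using 1
      group
    · intro he
      have h8 := (mem_normalizer_iff.1 (inv_mem s.2) e).1 he
      obtain ⟨e', he', he''⟩ := (SetLike.ext_iff.1 hk _).1 h8
      refine ⟨e', he', ?_⟩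
      simp only [MulEquiv.coe_toMonoidHom, MulAut.conj_apply] at he'' ⊢
      calc (s : G) * k * e' * ((s : G) * k)⁻¹ = (s : G) * (k * e' * k⁻¹) * (s : G)⁻¹ := by group
        _ = e := by rw [he'']; simp [mul_assoc]
  have hindex : St.index = Nat.card Ω := by
    refine Nat.card_congr (Equiv.ofBijective (Quotient.lift f fun q q' hqq => ?_) ⟨?_, ?_⟩)
    · exact (hfeq q q').2 (QuotientGroup.leftRel_apply.1 hqq)
    · rintro ⟨q⟩ ⟨q'⟩ hqq
      exact Quotient.sound (QuotientGroup.leftRel_apply.2 ((hfeq q q').1 hqq))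
    · intro L
      obtain ⟨q, hq⟩ := fsurj L
      exact ⟨Quotient.mk'' q, hq⟩
  -- there are `p + 1` of them
  have hcount : Nat.card Ω = p + 1 := by
    classical
    letI := Fintype.ofFinite Ω
    let e : {w : G // w ∈ (P : Subgroup G) ∧ w ∉ zpowers z} ≃
        Σ L : Ω, {w : G // w ∈ L.1 ∧ w ∉ zpowers z} :=
      (Equiv.ofBijective (fun y : (Σ L : Ω, {w : G // w ∈ L.1 ∧ w ∉ zpowers z}) =>
        (⟨y.2.1, y.1.2.1 y.2.2.1, y.2.2.2⟩ : {w : G // w ∈ (P : Subgroup G) ∧ w ∉ zpowers z})) (by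
        have uniq : ∀ L : Ω, ∀ w ∈ L.1, w ∉ zpowers z → L.1 = closure {z, w} := by
          intro L w hw hwz
          have hzL : z ∈ L.1 := h.mem_of_card_sq hna L.2.1 L.2.2
          have hle : closure {z, w} ≤ L.1 := (closure_le _).2 (by
            rintro a (rfl | rfl)
            · exact hzL
            · exact hw)
          refine (eq_of_le_of_card_ge hle ?_).symm
          obtain ⟨k, hk, hk'⟩ := (Nat.dvd_prime_pow hpp).1 (L.2.2 ▸ card_dvd_of_le hle)
          rw [L.2.2, hk']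
          refine Nat.pow_le_pow_right hpp.pos ?_
          by_contra hlt
          have hze : z ∈ closure {z, w} := subset_closure (by simp)
          refine hwz ?_
          rw [eq_of_le_of_card_ge (zpowers_le.2 hze) (by
            rw [hk', Nat.card_zpowers, h.ord]
            calc p ^ k ≤ p ^ 1 := Nat.pow_le_pow_right hpp.pos (by omega)
              _ = p := pow_one p)]
          exact subset_closure (by simp)
        constructor
        · rintro ⟨L, w, hw, hwz⟩ ⟨L', w', hw', hwz'⟩ heq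
          obtain rfl : w = w' := congrArg Subtype.val heq
          obtain rfl : L = L' := Subtype.ext ((uniq L w hw hwz).trans (uniq L' w hw' hwz').symm)
          rfl
        · rintro ⟨w, hw, hwz⟩
          have hwc : IsMulCommutative (closure ({z, w} : Set G)) := by
            refine isMulCommutative_closure ?_
            rintro a (rfl | rfl) b (rfl | rfl)
            all_goals first | rfl | exact h.cen _ hw | exact (h.cen _ hw).symm
          have hle : closure {z, w} ≤ (P : Subgroup G) := (closure_le _).2 (by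
            rintro a (rfl | rfl)
            · exact h.mem
            · exact hw)
          obtain ⟨k, hk, hk'⟩ := (Nat.dvd_prime_pow hpp).1 (h.card ▸ card_dvd_of_le hle)
          have hk2 : k = 2 := by
            have h3 : k ≠ 3 := by
              rintro rfl
              have ee := eq_of_le_of_card_ge hle (by rw [hk', h.card])
              exact hab₀ (congrArg (Subtype.val : closure ({z, w} : Set G) → G)
                (hwc.is_comm.comm ⟨a₀, ee ▸ ha₀⟩ ⟨b₀, ee ▸ hb₀⟩))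
            by_contra hne
            have hze : z ∈ closure {z, w} := subset_closure (by simp)
            refine hwz ?_
            rw [eq_of_le_of_card_ge (zpowers_le.2 hze) (by
              rw [hk', Nat.card_zpowers, h.ord]
              calc p ^ k ≤ p ^ 1 := Nat.pow_le_pow_right hpp.pos (by omega)
                _ = p := pow_one p)]
            exact subset_closure (by simp)
          exact ⟨⟨⟨_, hle, by rw [hk', hk2]⟩, w, subset_closure (by simp), hwz⟩, rfl⟩)).symm
    have hdiff : ∀ L : Subgroup G, z ∈ L →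
        Nat.card {w : G // w ∈ L ∧ w ∉ zpowers z} = Nat.card L - p := by
      intro L hzL
      have := Set.ncard_diff (show ((zpowers z : Subgroup G) : Set G) ⊆ L from zpowers_le.2 hzL)
        (Set.toFinite _)
      rw [← Nat.card_coe_set_eq, ← Nat.card_coe_set_eq, ← Nat.card_coe_set_eq] at this
      refine (Nat.card_congr (Equiv.subtypeEquivRight fun w => Iff.rfl)).trans (this.trans ?_)
      show Nat.card L - Nat.card (zpowers z) = _
      rw [Nat.card_zpowers, h.ord]
    have hcnt := Nat.card_congr e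
    rw [hdiff _ h.mem, Nat.card_sigma,
      Finset.sum_congr rfl (fun L _ => by
        rw [hdiff _ (h.mem_of_card_sq hna L.2.1 L.2.2), L.2.2]), Finset.sum_const, Finset.card_univ,
      ← Nat.card_eq_fintype_card, smul_eq_mul, h.card] at hcnt
    have h5 : p ^ 3 - p = (p + 1) * (p ^ 2 - p) := by
      have l2 : p ≤ p ^ 2 := Nat.le_self_pow two_ne_zero p
      have l3 : p ≤ p ^ 3 := Nat.le_self_pow (by norm_num) p
      zify [l2, l3]
      ring
    rw [h5] at hcnt
    refine (Nat.eq_of_mul_eq_mul_right (Nat.sub_pos_of_lt ?_) hcnt).symm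
    calc p = p ^ 1 := (pow_one p).symm
      _ < p ^ 2 := Nat.pow_lt_pow_right hpp.one_lt (by norm_num)
  -- a Sylow 2-subgroup of `N` containing `t` fixes `E`
  haveI : Fact (Nat.Prime 2) := ⟨Nat.prime_two⟩
  have htp : IsPGroup 2 (zpowers (⟨t, htP⟩ : N)) := by
    obtain ⟨i, hi⟩ := ht2
    exact IsPGroup.of_card (n := i) (by rw [Nat.card_zpowers, ← Subgroup.orderOf_coe]; exact hi)
  obtain ⟨T, hT⟩ := htp.exists_le_sylow
  have hTle : (T : Subgroup N) ≤ St := by
    intro q hq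
    show (q : G) ∈ normalizer (E : Set G)
    refine mem_normalizer_fintype fun e he => ?_
    have hcomm := h2 ((T : Subgroup N).map N.subtype) (T.2.map _) _ ⟨q, hq, rfl⟩ _
      ⟨⟨t, htP⟩, hT (mem_zpowers _), rfl⟩
    simp only [Subgroup.coe_subtype] at hcomm
    obtain ⟨i, hi⟩ := hcomm
    have hc : ∀ v ∈ (P : Subgroup G), (t ^ 2) ^ i * v * ((t ^ 2) ^ i)⁻¹ = v := by
      intro v hv
      have : Commute (t ^ 2) v := mul_inv_eq_iff_eq_mul.1 (ht2c v hv)
      rw [(this.zpow_left i).eq, mul_inv_cancel_right]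
    set e' := (q : G) * e * (q : G)⁻¹ with he'
    have he'P : e' ∈ (P : Subgroup G) := (mem_normalizer_iff.1 q.2 e).1 (hEP he)
    refine hchar e' he'P ?_
    have h3 : (t ^ 2) ^ i * (t * e' * t⁻¹) * ((t ^ 2) ^ i)⁻¹ = t * e' * t⁻¹ :=
      hc _ ((mem_normalizer_iff.1 htP e').1 he'P)
    rw [show (t ^ 2) ^ i = (q : G) * t * (q : G)⁻¹ * t⁻¹ from hi] at h3
    rw [← h3, he']
    calc (q : G) * t * (q : G)⁻¹ * t⁻¹ * (t * ((q : G) * e * (q : G)⁻¹) * t⁻¹) *
          ((q : G) * t * (q : G)⁻¹ * t⁻¹)⁻¹ * ((q : G) * e * (q : G)⁻¹)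
        = (q : G) * ((t * e * t⁻¹) * e) * (q : G)⁻¹ := by group
      _ = 1 := by rw [htE e he]; group
  have hodd : ¬ 2 ∣ St.index := fun hd =>
    T.not_dvd_index (hd.trans (Subgroup.index_dvd_of_le hTle))
  rw [hindex, hcount] at hodd
  exact hodd (Nat.even_add_one.2 (Nat.not_even_iff_odd.2 (hpp.odd_of_ne_two hp2))).two_dvd

end CfsgLib.EqualOrder
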